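import Mathlib
import Cfsg.Prelude.Def_KGroupFacts
import Cfsg.Agent.H22.SRG100

/-!
# Automorphisms of a rank 3 group of the graph with parameters `(100, 22, 0, 6)`
(definitions and piece statements)

`ρ : H →* (Γ ≃g Γ)` is a faithful action of a group `H` of order `44352000` on a graph `Γ` with
the parameters `(100, 22, 0, 6)` (`Cfsg.Agent.H22.SRG.Hyp Γ`), transitive on the vertices, the
stabiliser of a vertex `x` being transitive on the 22 neighbours of `x` and on the 77 other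
vertices (`R3G ρ`).  Then every automorphism of `H` is induced by an automorphism of `Γ`, and
`Out H` has order 2.
-/

set_option autoImplicit false

namespace Cfsg.Agent.H33.O2

open Cfsg.Agent.H22.SRG

section defs

variable {H V : Type} [Group H] [Fintype V] {Γ : SimpleGraph V}

/-- the stabiliser of a vertex -/
def St (ρ : H →* (Γ ≃g Γ)) (x : V) : Subgroup H where
  carrier := {h | ρ h x = x}
  one_mem' := by simp
  mul_mem' := by
    intro a b ha hb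
    simp only [Set.mem_setOf_eq] at ha hb ⊢
    rw [map_mul, RelIso.coe_mul, Function.comp_apply, hb, ha]
  inv_mem' := by
    intro a ha
    simp only [Set.mem_setOf_eq] at ha ⊢
    rw [map_inv]
    conv_lhs => rw [← ha]
    simp

theorem mem_St (ρ : H →* (Γ ≃g Γ)) (x : V) (h : H) : h ∈ St ρ x ↔ ρ h x = x := Iff.rfl

/-- the hypotheses: a rank 3 group of automorphisms of the graph -/
structure R3G (ρ : H →* (Γ ≃g Γ)) : Prop where
  hyp : Hyp Γ
  inj : Function.Injective ρ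
  card : Nat.card H = 44352000
  trans : ∀ x y : V, ∃ h : H, ρ h x = y
  tadj : ∀ x y z : V, Γ.Adj x y → Γ.Adj x z → ∃ h : H, ρ h x = x ∧ ρ h y = z
  tnadj : ∀ x y z : V, x ≠ y → x ≠ z → ¬ Γ.Adj x y → ¬ Γ.Adj x z →
    ∃ h : H, ρ h x = x ∧ ρ h y = z

/-- the orders of the stabilisers of one and of two vertices -/
def OrdC (ρ : H →* (Γ ≃g Γ)) : Prop :=
  (∀ x, Nat.card ↥(St ρ x) = 443520) ∧
  (∀ x z, Γ.Adj x z → Nat.card ↥(St ρ x ⊓ St ρ z) = 20160) ∧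
  (∀ x z, x ≠ z → ¬ Γ.Adj x z → Nat.card ↥(St ρ x ⊓ St ρ z) = 5760)

/-- an element of order 11 fixes exactly one vertex, an element of order 7 at most two -/
def FixC (ρ : H →* (Γ ≃g Γ)) : Prop :=
  (∀ g : H, orderOf g = 11 → ∃ x, ρ g x = x ∧ ∀ y, ρ g y = y → y = x) ∧
  (∀ g : H, orderOf g = 7 → ∀ x y z, ρ g x = x → ρ g y = y → ρ g z = z →
    x = y ∨ x = z ∨ y = z)

/-- the stabiliser of `x` fixes no other vertex -/
def FixOneC (ρ : H →* (Γ ≃g Γ)) : Prop :=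
  ∀ x y, (∀ h, ρ h x = x → ρ h y = y) → y = x

/-- the subgroups of order 443520 are the vertex stabilisers -/
def KFixC (ρ : H →* (Γ ≃g Γ)) : Prop :=
  ∀ K : Subgroup H, Nat.card ↥K = 443520 → ∃ y, K = St ρ y

/-- the automorphism `α` of the group maps the stabiliser of `x` onto that of `f x` -/
def Ind (ρ : H →* (Γ ≃g Γ)) (α : MulAut H) (f : Γ ≃g Γ) : Prop :=
  ∀ x h, ρ (α h) (f x) = f x ↔ ρ h x = x

end defs

/-! ### The piece statements -/

/-- ORD -/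
def StOrd : Prop := ∀ {H V : Type} [Group H] [Fintype V] {Γ : SimpleGraph V}
  (ρ : H →* (Γ ≃g Γ)), R3G ρ → OrdC ρ

/-- FIX -/
def StFix : Prop := ∀ {H V : Type} [Group H] [Fintype V] {Γ : SimpleGraph V}
  (ρ : H →* (Γ ≃g Γ)), R3G ρ → OrdC ρ → FixC ρ

/-- G56: no set of 56 vertices has the regularity properties of an orbit. -/
def StG56 : Prop := ∀ {V : Type} [Fintype V] (Γ : SimpleGraph V), Hyp Γ →
  ∀ (O : Set V) (d : ℕ), O.ncard = 56 → (∀ v ∈ O, {u | Γ.Adj v u ∧ u ∈ O}.ncard = d) →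
  (d = 0 ∨ d = 11 ∨ d = 22) →
  (d = 11 → ∃ (T : Set V) (n : ℕ), Disjoint T O ∧ (∀ v ∈ O, ∀ u, Γ.Adj v u → u ∉ O → u ∈ T) ∧
    ∀ u ∈ T, {v | Γ.Adj u v ∧ v ∈ O}.ncard = n) → False

/-- KORB -/
def StKOrb : Prop := ∀ {H V : Type} [Group H] [Fintype V] {Γ : SimpleGraph V}
  (ρ : H →* (Γ ≃g Γ)), R3G ρ → OrdC ρ → FixC ρ → ∀ K : Subgroup H, Nat.card ↥K = 443520 →
  (∃ y, K = St ρ y) ∨
  (∃ (y : V) (g : H), g ∈ K ∧ orderOf g = 11 ∧ ρ g y = y ∧
    {v | ∃ k ∈ K, ρ k y = v}.ncard = 56)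

/-- K56 -/
def StK56 : Prop := ∀ {H V : Type} [Group H] [Fintype V] {Γ : SimpleGraph V}
  (ρ : H →* (Γ ≃g Γ)), R3G ρ → FixC ρ → StG56 → ∀ (K : Subgroup H) (y : V) (g : H), g ∈ K →
  orderOf g = 11 → ρ g y = y → {v | ∃ k ∈ K, ρ k y = v}.ncard = 56 → False

/-- FIXONE -/
def StFixOne : Prop := ∀ {H V : Type} [Group H] [Fintype V] {Γ : SimpleGraph V}
  (ρ : H →* (Γ ≃g Γ)), R3G ρ → FixOneC ρ

/-- CONJ -/
def StConj : Prop := ∀ {H V : Type} [Group H] [Fintype V] {Γ : SimpleGraph V}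
  (ρ : H →* (Γ ≃g Γ)), FixOneC ρ → ∀ (α : MulAut H) (f : Γ ≃g Γ), Ind ρ α f →
  ∀ h, ρ (α h) = f * ρ h * f⁻¹

/-- INDEX -/
def StIndEx : Prop := ∀ {H V : Type} [Group H] [Fintype V] {Γ : SimpleGraph V}
  (ρ : H →* (Γ ≃g Γ)), R3G ρ → OrdC ρ → FixOneC ρ → KFixC ρ →
  ∀ α : MulAut H, ∃ f : Γ ≃g Γ, Ind ρ α f

/-- CENT -/
def StCent : Prop := ∀ {H V : Type} [Group H] [Fintype V] {Γ : SimpleGraph V}
  (ρ : H →* (Γ ≃g Γ)), FixOneC ρ → ∀ z : Γ ≃g Γ, (∀ h, z * ρ h = ρ h * z) → z = 1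

/-- OUT: a group embedded with index 2 and trivial centraliser in a group inducing all of its
automorphisms has outer automorphism group of order 2. -/
def StOut : Prop := ∀ {H A : Type} [Group H] [Group A] [Finite A] (ρ : H →* A),
  Function.Injective ρ → Nat.card A = 2 * Nat.card H →
  (∀ z : A, (∀ h, z * ρ h = ρ h * z) → z = 1) →
  (∀ α : MulAut H, ∃ f : A, ∀ h, ρ (α h) = f * ρ h * f⁻¹) → Nat.card (Cfsg.Out H) = 2

end Cfsg.Agent.H33.O2
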