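import Mathlib
import Cfsg.Agent.H33.O2.Defs
import Cfsg.Agent.H33.R3.Defs

/-!
# Automorphisms of a rank 3 group of the graph with parameters `(100, 22, 0, 6)`: assembly
-/

set_option autoImplicit false

namespace Cfsg.Agent.H33.O2

open Cfsg.Agent.H22.SRG

theorem out_main (hOrd : StOrd) (hFix : StFix) (hG56 : StG56) (hKOrb : StKOrb) (hK56 : StK56)
    (hFixOne : StFixOne) (hConj : StConj) (hIndEx : StIndEx) (hCent : StCent) (hOut : StOut)
    (hAut : Cfsg.Agent.H33.R3.StAut.{0})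
    {H V : Type} [Group H] [Fintype V] {Γ : SimpleGraph V} (ρ : H →* (Γ ≃g Γ)) (h : R3G ρ) :
    Nat.card (Cfsg.Out H) = 2 := by
  have ordc := hOrd ρ h
  have fixc := hFix ρ h ordc
  have fo := hFixOne ρ h
  have kfix : KFixC ρ := by
    intro K hK
    rcases hKOrb ρ h ordc fixc K hK with h1 | ⟨y, g, hg, ho, hy, hc⟩
    · exact h1
    · exact (hK56 ρ h fixc hG56 K y g hg ho hy hc).elim
  have hA : Nat.card (Γ ≃g Γ) = 88704000 := hAut Γ h.hyp
  haveI : Finite (Γ ≃g Γ) := Nat.finite_of_card_ne_zero (by rw [hA]; norm_num)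
  refine hOut ρ h.inj (by rw [hA, h.card]) (hCent ρ fo) ?_
  intro α
  obtain ⟨f, hf⟩ := hIndEx ρ h ordc fo kfix α
  exact ⟨f, hConj ρ fo α f hf⟩

/-- transport of the hypotheses along an isomorphism of the acting group -/
theorem r3g_comp {H H' V : Type} [Group H] [Group H'] [Fintype V] {Γ : SimpleGraph V}
    (ρ : H' →* (Γ ≃g Γ)) (e : H ≃* H') (h : R3G ρ) : R3G (ρ.comp e.toMonoidHom) where
  hyp := h.hyp
  inj := h.inj.comp e.injective
  card := (Nat.card_congr e.toEquiv).trans h.card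
  trans x y := by
    obtain ⟨k, hk⟩ := h.trans x y
    refine ⟨e.symm k, ?_⟩
    show ρ (e (e.symm k)) x = y
    rw [e.apply_symm_apply]; exact hk
  tadj x y z h1 h2 := by
    obtain ⟨k, hk⟩ := h.tadj x y z h1 h2
    refine ⟨e.symm k, ?_⟩
    show ρ (e (e.symm k)) x = x ∧ ρ (e (e.symm k)) y = z
    rw [e.apply_symm_apply]; exact hk
  tnadj x y z h1 h2 h3 h4 := by
    obtain ⟨k, hk⟩ := h.tnadj x y z h1 h2 h3 h4
    refine ⟨e.symm k, ?_⟩
    show ρ (e (e.symm k)) x = x ∧ ρ (e (e.symm k)) y = z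
    rw [e.apply_symm_apply]; exact hk

end Cfsg.Agent.H33.O2
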