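import Mathlib
import Cfsg.Agent.H33.R3.HSb
import Cfsg.Agent.H33.O2.Main

/-!
# The Higman–Sims group of the Prelude as a rank 3 group of the graph on the 100 vectors
-/

set_option autoImplicit false
set_option maxRecDepth 100000

namespace Cfsg.Agent.H33.O2

open Cfsg Cfsg.Agent.H9 Cfsg.Agent.H93 Cfsg.Agent.H33 Cfsg.Agent.H22.SRG Cfsg.Agent.H33.R3

/-- an element of the joint stabiliser of the standard pair -/
def mkS (g : Equiv.Perm leechLattice) (hg : g ∈ Co0) (h1 : g a48 = a48) (h2 : g w48 = w48) :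
    ↥(MulAction.stabilizer ↥Co0 a48 ⊓ MulAction.stabilizer ↥Co0 w48) :=
  ⟨⟨g, hg⟩, (mem_stab_pair a48 w48 24 (-24) ⟨g, hg⟩).mpr
    ((fixS_pair g a48 w48 24 (-24)).mpr ⟨h1, h2⟩)⟩

theorem psi_mkS (g : Equiv.Perm leechLattice) (hg : g ∈ Co0) (h1 : g a48 = a48)
    (h2 : g w48 = w48) (x : ↥X100) : ((psi (mkS g hg h1 h2)) x).1 = g x.1 := rfl

theorem rank3_std (x : leechLattice) (hx : x ∈ X100) :
    (∀ y ∈ XD [(a48, 24), (w48, -24)], y ≠ x →
      dotInt (x : GolayPt → ℤ) (y : GolayPt → ℤ) = 8 ∨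
      dotInt (x : GolayPt → ℤ) (y : GolayPt → ℤ) = 16) ∧
    ∀ d : ℤ, ∀ y ∈ XD [(a48, 24), (w48, -24), (x, d)],
      ∀ y' ∈ XD [(a48, 24), (w48, -24), (x, d)], y ≠ x →
      ∃ g ∈ Co0, g a48 = a48 ∧ g w48 = w48 ∧ g x = x ∧ g y = y' := by
  have h := rank3_generic L100_vals L100_level.1 L22_level L77_level a48 w48 x
    (h0 := 1) (one_mem _) (actC_of_fix (fun c _ => rfl)) hx
  exact ⟨h.2.2.1, h.2.2.2⟩

theorem psi_r3g : R3G psi where
  hyp := hsGraph_hyp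
  inj := psi_injective
  card := hs_std_card
  trans x y := by
    obtain ⟨g, hg, hf, e⟩ := level_pair L100_level.1 x.1 x.2 y.1 y.2
    exact ⟨mkS g hg (fix_a48 hf) (fix_w48 hf), Subtype.ext e⟩
  tadj x y z h1 h2 := by
    have hx2 := (XD_two _ _ _ _ _).mp x.2
    have hy2 := (XD_two _ _ _ _ _).mp y.2
    have hz2 := (XD_two _ _ _ _ _).mp z.2
    have hy3 : y.1 ∈ XD [(a48, 24), (w48, -24), (x.1, 8)] :=
      (XD_three _ _ _ _ _ _ _).mpr ⟨hy2.1, hy2.2.1, hy2.2.2, h1⟩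
    have hz3 : z.1 ∈ XD [(a48, 24), (w48, -24), (x.1, 8)] :=
      (XD_three _ _ _ _ _ _ _).mpr ⟨hz2.1, hz2.2.1, hz2.2.2, h2⟩
    have hne : y.1 ≠ x.1 := by
      intro e
      have h3 : dotInt (x.1 : GolayPt → ℤ) (y.1 : GolayPt → ℤ) = 8 := h1
      rw [e, lc_dot_self, hx2.1] at h3
      norm_num at h3
    obtain ⟨g, hg, e1, e2, e3, e4⟩ := (rank3_std x.1 x.2).2 8 y.1 hy3 z.1 hz3 hne
    exact ⟨mkS g hg e1 e2, Subtype.ext e3, Subtype.ext e4⟩
  tnadj x y z hxy hxz h1 h2 := by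
    have hx2 := (XD_two _ _ _ _ _).mp x.2
    have hy2 := (XD_two _ _ _ _ _).mp y.2
    have hz2 := (XD_two _ _ _ _ _).mp z.2
    have hney : y.1 ≠ x.1 := fun e => hxy (Subtype.ext e.symm)
    have hnez : z.1 ≠ x.1 := fun e => hxz (Subtype.ext e.symm)
    have dy : dotInt (x.1 : GolayPt → ℤ) (y.1 : GolayPt → ℤ) = 16 := by
      rcases (rank3_std x.1 x.2).1 y.1 y.2 hney with h | h
      · exact absurd h h1
      · exact h
    have dz : dotInt (x.1 : GolayPt → ℤ) (z.1 : GolayPt → ℤ) = 16 := by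
      rcases (rank3_std x.1 x.2).1 z.1 z.2 hnez with h | h
      · exact absurd h h2
      · exact h
    have hy3 : y.1 ∈ XD [(a48, 24), (w48, -24), (x.1, 16)] :=
      (XD_three _ _ _ _ _ _ _).mpr ⟨hy2.1, hy2.2.1, hy2.2.2, dy⟩
    have hz3 : z.1 ∈ XD [(a48, 24), (w48, -24), (x.1, 16)] :=
      (XD_three _ _ _ _ _ _ _).mpr ⟨hz2.1, hz2.2.1, hz2.2.2, dz⟩
    obtain ⟨g, hg, e1, e2, e3, e4⟩ := (rank3_std x.1 x.2).2 16 y.1 hy3 z.1 hz3 hney
    exact ⟨mkS g hg e1 e2, Subtype.ext e3, Subtype.ext e4⟩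

/-- the group of the Prelude and the joint stabiliser of the standard pair -/
theorem hs_equiv_std : Nonempty (↥Spor.HS ≃*
    ↥(MulAction.stabilizer ↥Co0 a48 ⊓ MulAction.stabilizer ↥Co0 w48)) := by
  obtain ⟨h, hh, he⟩ := hs_pair_to_std Spor.leechV wP leechV_sq wP_sq leechV_wP_dot
  have hev : h Spor.leechV = a48 := by
    have : [(h Spor.leechV, (24 : ℤ)), (h wP, (-24 : ℤ))] = [(a48, 24), (w48, -24)] := he
    simp only [List.cons.injEq, Prod.mk.injEq, and_true] at this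
    exact this.1
  have hew : h wP = w48 := by
    have : [(h Spor.leechV, (24 : ℤ)), (h wP, (-24 : ℤ))] = [(a48, 24), (w48, -24)] := he
    simp only [List.cons.injEq, Prod.mk.injEq, and_true] at this
    exact this.2
  have hconj : ∀ g : ↥Co0,
      g ∈ MulAction.stabilizer ↥Co0 Spor.leechV ⊓ MulAction.stabilizer ↥Co0 wP ↔
      (⟨h, hh⟩ : ↥Co0) * g * (⟨h, hh⟩ : ↥Co0)⁻¹ ∈
        MulAction.stabilizer ↥Co0 a48 ⊓ MulAction.stabilizer ↥Co0 w48 := by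
    intro g
    simp only [Subgroup.mem_inf, MulAction.mem_stabilizer_iff]
    have key : ∀ (z z' : leechLattice), h z = z' →
        (((⟨h, hh⟩ : ↥Co0) * g * (⟨h, hh⟩ : ↥Co0)⁻¹) • z' = z' ↔ g • z = z) := by
      intro z z' e
      have e' : h⁻¹ z' = z := by rw [Equiv.Perm.inv_eq_iff_eq]; exact e.symm
      show h ((g : Equiv.Perm leechLattice) (h⁻¹ z')) = z' ↔ (g : Equiv.Perm leechLattice) z = z
      rw [e', ← e]
      exact h.injective.eq_iff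
    rw [key Spor.leechV a48 hev, key wP w48 hew]
  exact ⟨(hsEquiv.trans (MulEquiv.subgroupCongr hs_stab_eq)).trans
    (conjEquiv _ _ (⟨h, hh⟩ : ↥Co0) hconj)⟩

theorem hs_r3g : ∃ ρ : ↥Spor.HS →* (hsGraph ≃g hsGraph), R3G ρ := by
  obtain ⟨e⟩ := hs_equiv_std
  exact ⟨psi.comp e.toMonoidHom, r3g_comp psi e psi_r3g⟩

/-- the outer automorphism group of the Higman–Sims group, from the pieces -/
theorem out_hs (hOrd : StOrd) (hFix : StFix) (hG56 : StG56) (hKOrb : StKOrb) (hK56 : StK56)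
    (hFixOne : StFixOne) (hConj : StConj) (hIndEx : StIndEx) (hCent : StCent) (hOut : StOut)
    (hAut : Cfsg.Agent.H33.R3.StAut.{0}) : Nat.card (Cfsg.Out ↥Cfsg.Spor.HS) = 2 := by
  obtain ⟨ρ, hρ⟩ := hs_r3g
  exact out_main hOrd hFix hG56 hKOrb hK56 hFixOne hConj hIndEx hCent hOut hAut ρ hρ

end Cfsg.Agent.H33.O2
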